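import Groth.Agent.Lib.Helper6.FlagGrp.FGa
import Groth.Agent.Lib.Helper9.Unipotent
import Groth.Agent.Lib.Helper9.ActRep
import Groth.Agent.Lib.Helper9.Comod4
import Groth.Agent.Lib.Helper9.Comod7
import Groth.Agent.Lib.Helper6.LinRed.LRd

/-!
# Rational points of unipotent and trigonalizable groups (helper6, S7986, S3267)
-/

set_option autoImplicit false
set_option linter.unusedSectionVars false
set_option linter.unusedVariables false
set_option linter.unusedSimpArgs false
set_option linter.style.haveILetI false
set_option linter.overlappingInstances false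
set_option maxHeartbeats 800000
set_option synthInstance.maxHeartbeats 400000

noncomputable section

namespace Groth.Agent.Lib.Helper6.FlagGrp

open TensorProduct WithConv Groth.Agent.Helper9

universe u v w w'

section Act

variable {k : Type u} [Field k] {A : Type v} [CommRing A] [Bialgebra k A]
variable {V : Type w} [AddCommGroup V] [Module k V] [HopfRep.Comod k A V]
variable {V' : Type w'} [AddCommGroup V'] [Module k V'] [HopfRep.Comod k A V']

theorem act_mem {W : Submodule k V} (hW : HopfRep.IsSubcomod (k := k) (A := A) W)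
    (g : A →ₐ[k] k) {v : V} (hv : v ∈ W) : HopfRep.Comod.act k A V g v ∈ W := by
  rw [ActRep.act_eq_slice]
  exact slice_mem_of_mem_range_rTensor_subtype W _ (hW v hv) _

theorem act_natural (f : V →ₗ[k] V') (hf : Hoch.IsComodHom A f) (g : A →ₐ[k] k) (v : V) :
    HopfRep.Comod.act k A V' g (f v) = f (HopfRep.Comod.act k A V g v) := by
  rw [ActRep.act_eq_slice, ActRep.act_eq_slice, ← slice_rTensor]
  have := LinearMap.congr_fun hf v
  simp only [LinearMap.comp_apply] at this
  rw [this]

theorem counit_slice (g : A →ₗ[k] k) (t : A ⊗[k] A) :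
    CoalgebraStruct.counit (R := k) (A := A) (slice g t) =
      g (TensorProduct.lid k A ((CoalgebraStruct.counit (R := k) (A := A)).rTensor A t)) := by
  induction t using TensorProduct.induction_on with
  | zero => simp
  | tmul a b =>
    rw [slice_tmul, LinearMap.rTensor_tmul, TensorProduct.lid_tmul, map_smul, map_smul,
      smul_eq_mul, smul_eq_mul, mul_comm]
  | add x y hx hy => simp only [map_add, hx, hy]

/-- the counit recovers a point from its action on the regular comodule -/
theorem counit_act (g : A →ₐ[k] k) (a : A) :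
    CoalgebraStruct.counit (R := k) (A := A) (HopfRep.Comod.act k A A g a) = g a := by
  rw [ActRep.act_eq_slice, counit_slice]
  have h1 : (CoalgebraStruct.counit (R := k) (A := A)).rTensor A
      (CoalgebraStruct.comul (R := k) (A := A) a) = (1 : k) ⊗ₜ[k] a := by
    have := LinearMap.congr_fun (Coalgebra.rTensor_counit_comp_comul (R := k) (A := A)) a
    exact this
  show g.toLinearMap (TensorProduct.lid k A ((CoalgebraStruct.counit (R := k) (A := A)).rTensor A
      (CoalgebraStruct.comul (R := k) (A := A) a))) = g a
  rw [h1, TensorProduct.lid_tmul, one_smul]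
  rfl

end Act

section Faithful

variable {k : Type u} [Field k] {A : Type v} [CommRing A] [HopfAlgebra k A]

/-- a finite-dimensional subcomodule of `A` containing algebra generators is a faithful
representation of the group of rational points. -/
theorem faithful_of_adjoin (S : Finset A) (hS : Algebra.adjoin k (S : Set A) = ⊤)
    (V₀ : Submodule k A) (hV₀ : HopfRep.IsSubcomod (k := k) (A := A) V₀) (hSV : ∀ s ∈ S, s ∈ V₀)
    (g : WithConv (A →ₐ[k] k))
    (hg : @HopfRep.Comod.act k A _ _ _ V₀ _ _ (subComod V₀ hV₀) g.ofConv = 1) : g = 1 := by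
  letI := subComod V₀ hV₀
  apply WithConv.ofConv_injective
  apply AlgHom.ext_of_adjoin_eq_top hS
  intro s hs
  have h1 : HopfRep.Comod.act k A V₀ g.ofConv ⟨s, hSV s hs⟩ = ⟨s, hSV s hs⟩ := by
    rw [hg]; rfl
  have h2 := act_natural V₀.subtype (isComodHom_subtype V₀ hV₀) g.ofConv ⟨s, hSV s hs⟩
  rw [h1] at h2
  have h3 : HopfRep.Comod.act k A A g.ofConv s = s := h2
  have h4 := counit_act g.ofConv s
  rw [h3] at h4
  rw [← h4]
  rfl

end Faithful

section Unipotent

variable {k : Type u} [Field k] {A : Type v} [CommRing A] [HopfAlgebra k A]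

theorem isNilpotent_points [Algebra.FiniteType k A] (hU : HopfRep.IsUnipotent k A) :
    Group.IsNilpotent (WithConv (A →ₐ[k] k)) := by
  obtain ⟨S, hS⟩ := (Algebra.FiniteType.out : (⊤ : Subalgebra k A).FG)
  obtain ⟨V₀, hfin, hSV, hV₀⟩ := LinRed.exists_finite_subcomod_finset (k := k) (H := A) (V := A) S
  letI := subComod V₀ hV₀
  obtain ⟨m, F, hmono, h0, hm, hsub, htriv⟩ := hasTrivFlag_of_isUnipotent hU V₀ hfin
  refine isNilpotent_of_flag (ActRep.actRep k A V₀)
    (fun g hg => faithful_of_adjoin S hS V₀ hV₀ hSV g hg) m F hmono h0 hm ?_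
  intro g i v hv
  cases i with
  | zero =>
    rw [h0, Submodule.mem_bot] at hv
    rw [hv, map_zero, sub_zero]
    exact Submodule.zero_mem _
  | succ j =>
    rw [Nat.add_sub_cancel]
    have hact : ActRep.actRep k A V₀ g v - v = slice g.ofConv.toLinearMap
        (HopfRep.Comod.coact (k := k) (A := A) v - v ⊗ₜ[k] (1 : A)) := by
      rw [map_sub, slice_tmul]
      simp only [AlgHom.toLinearMap_apply, map_one, one_smul]
      rfl
    rw [hact]
    exact slice_mem_of_mem_range_rTensor_subtype (F j) _ (htriv j v hv) _

end Unipotent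

section Trig

variable {k : Type u} [Field k] {A : Type v} [CommRing A] [Bialgebra k A]

/-- A flag of subcomodules with cyclic graded pieces. -/
def HasLineFlag (k : Type u) (A : Type v) [Field k] [CommRing A] [Bialgebra k A]
    (V : Type w) [AddCommGroup V] [Module k V] [HopfRep.Comod k A V] : Prop :=
  ∃ (m : ℕ) (F : ℕ → Submodule k V), Monotone F ∧ F 0 = ⊥ ∧ F m = ⊤ ∧
    (∀ i, HopfRep.IsSubcomod (k := k) (A := A) (F i)) ∧
    ∀ i, ∃ e ∈ F (i + 1), ∀ v ∈ F (i + 1), ∃ c : k, v - c • e ∈ F i

theorem hasLineFlag_of_isTrigonalizable_aux (hT : HopfRep.IsTrigonalizable k A) :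
    ∀ (n : ℕ) (V : Type v) [AddCommGroup V] [Module k V] [HopfRep.Comod k A V],
      Module.Finite k V → Module.finrank k V = n → HasLineFlag k A V := by
  intro n
  induction n using Nat.strong_induction_on with
  | _ n ih =>
    intro V _ _ _ hfin hn
    by_cases hV : Subsingleton V
    · refine ⟨0, fun _ => ⊤, monotone_const, ?_, rfl, fun _ => isSubcomod_top, fun i => ?_⟩
      · exact eq_bot_iff.mpr (fun x _ => by rw [Subsingleton.elim x 0]; exact zero_mem _)
      · exact ⟨0, Submodule.zero_mem _, fun v _ => ⟨0, trivial⟩⟩
    · have hnt : Nontrivial V := not_subsingleton_iff_nontrivial.mp hV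
      obtain ⟨W, hWs⟩ := exists_isSimpleSub (k := k) (C := A) (V := V)
      have hW : HopfRep.IsSubcomod (k := k) (A := A) W := hWs.1
      have hWne : W ≠ ⊥ := hWs.2.1
      -- `W` is one-dimensional
      have hW1 : Module.finrank k W = 1 := by
        letI := subComod W hW
        exact hT W inferInstance (isSimpleComod_of_isSimpleSub W hWs)
      letI : HopfRep.Comod k A (V ⧸ W) := quotComod W hW
      have hπ : Hoch.IsComodHom A W.mkQ := quotCoact_comp_mkQ W hW
      have hlt : Module.finrank k (V ⧸ W) < n := by
        have h1 := Submodule.finrank_quotient_add_finrank W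
        omega
      obtain ⟨m', F', hmono, h0, hm, hsub, hcyc⟩ :=
        ih _ hlt (V ⧸ W) inferInstance rfl
      refine ⟨m' + 1, shiftFlag W.mkQ F', ?_, rfl, ?_, ?_, ?_⟩
      · apply monotone_nat_of_le_succ
        intro i
        cases i with
        | zero => exact bot_le
        | succ j => exact Submodule.comap_mono (hmono (Nat.le_succ j))
      · show (F' m').comap W.mkQ = ⊤
        rw [hm]
        rfl
      · intro i
        cases i with
        | zero => exact isSubcomod_bot
        | succ j => exact isSubcomod_comap W.mkQ hπ (F' j) (hsub j)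
      · intro i
        cases i with
        | zero =>
          obtain ⟨e, he⟩ := finrank_eq_one_iff'.mp hW1
          refine ⟨(e : V), ?_, fun v hv => ?_⟩
          · show W.mkQ (e : V) ∈ F' 0
            rw [h0, Submodule.mem_bot, Submodule.mkQ_apply, Submodule.Quotient.mk_eq_zero]
            exact e.2
          · have hv' : v ∈ W := by
              have h1 : W.mkQ v ∈ F' 0 := hv
              rw [h0, Submodule.mem_bot, Submodule.mkQ_apply,
                Submodule.Quotient.mk_eq_zero] at h1
              exact h1
            obtain ⟨c, hc⟩ := he.2 ⟨v, hv'⟩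
            refine ⟨c, ?_⟩
            have h2 : v - c • (e : V) = 0 := by
              have := congrArg Subtype.val hc
              simp only [Submodule.coe_smul] at this
              rw [this, sub_self]
            rw [h2]
            exact Submodule.zero_mem _
        | succ j =>
          obtain ⟨e', he', hev'⟩ := hcyc j
          obtain ⟨e, rfl⟩ := W.mkQ_surjective e'
          refine ⟨e, he', fun v hv => ?_⟩
          obtain ⟨c, hc⟩ := hev' (W.mkQ v) hv
          refine ⟨c, ?_⟩
          show W.mkQ (v - c • e) ∈ F' j
          rw [map_sub, map_smul]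
          exact hc

theorem hasLineFlag_of_isTrigonalizable (hT : HopfRep.IsTrigonalizable k A)
    (V : Type v) [AddCommGroup V] [Module k V] [HopfRep.Comod k A V] (hfin : Module.Finite k V) :
    HasLineFlag k A V :=
  hasLineFlag_of_isTrigonalizable_aux hT _ V hfin rfl

end Trig

section TrigPoints

variable {k : Type u} [Field k] {A : Type v} [CommRing A] [HopfAlgebra k A]

theorem isSolvable_points [Algebra.FiniteType k A] (hT : HopfRep.IsTrigonalizable k A) :
    Group.IsSolvable (WithConv (A →ₐ[k] k)) := by
  obtain ⟨S, hS⟩ := (Algebra.FiniteType.out : (⊤ : Subalgebra k A).FG)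
  obtain ⟨V₀, hfin, hSV, hV₀⟩ := LinRed.exists_finite_subcomod_finset (k := k) (H := A) (V := A) S
  letI := subComod V₀ hV₀
  obtain ⟨m, F, hmono, h0, hm, hsub, hcyc⟩ := hasLineFlag_of_isTrigonalizable hT V₀ hfin
  exact isSolvable_of_flag (ActRep.actRep k A V₀)
    (fun g hg => faithful_of_adjoin S hS V₀ hV₀ hSV g hg) m F hmono h0 hm
    (fun g i v hv => act_mem (hsub i) g.ofConv hv) hcyc

end TrigPoints

end Groth.Agent.Lib.Helper6.FlagGrp
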