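import Mathlib

/-!
# Groups acting faithfully on a flag (helper6)

A group acting faithfully on a module and unipotently with respect to a finite flag is nilpotent;
a group acting faithfully and preserving a finite flag with cyclic quotients is solvable.
-/

set_option autoImplicit false
set_option linter.unusedSectionVars false
set_option linter.unusedVariables false
set_option linter.unusedSimpArgs false
set_option linter.style.haveILetI false
set_option linter.overlappingInstances false
set_option maxHeartbeats 800000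

universe u v w

namespace Groth.Agent.Lib.Helper6.FlagGrp

open scoped commutatorElement

section Nilp

variable {k : Type u} [CommRing k] {Γ : Type v} [Group Γ] {V : Type w} [AddCommGroup V] [Module k V]

/-- the subgroup of elements moving `F i` into `F (i - j)` -/
def shiftSubgroup (ρ : Representation k Γ V) (F : ℕ → Submodule k V)
    (hstab : ∀ g i, ∀ v ∈ F i, ρ g v ∈ F i) (j : ℕ) : Subgroup Γ where
  carrier := {g | ∀ i, ∀ v ∈ F i, ρ g v - v ∈ F (i - j)}
  mul_mem' := by
    intro g h hg hh i v hv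
    have h1 : ρ (g * h) v - v = ρ g (ρ h v - v) + (ρ g v - v) := by
      rw [map_mul, Module.End.mul_apply, map_sub]; abel
    rw [h1]
    exact Submodule.add_mem _ (hstab g _ _ (hh i v hv)) (hg i v hv)
  one_mem' := by
    intro i v hv
    rw [map_one, Module.End.one_apply, sub_self]
    exact Submodule.zero_mem _
  inv_mem' := by
    intro g hg i v hv
    have h1 : ρ g⁻¹ v - v = -(ρ g⁻¹ (ρ g v - v)) := by
      rw [map_sub, Representation.inv_self_apply]; abel
    rw [h1]
    exact Submodule.neg_mem _ (hstab g⁻¹ _ _ (hg i v hv))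

theorem mem_shiftSubgroup (ρ : Representation k Γ V) (F : ℕ → Submodule k V)
    (hstab : ∀ g i, ∀ v ∈ F i, ρ g v ∈ F i) (j : ℕ) (g : Γ) :
    g ∈ shiftSubgroup ρ F hstab j ↔ ∀ i, ∀ v ∈ F i, ρ g v - v ∈ F (i - j) := Iff.rfl

/-- the commutator identity -/
theorem comm_apply' (ρ : Representation k Γ V) (x g : Γ) (v w : V)
    (hw : w = ρ x⁻¹ (ρ g⁻¹ v)) :
    ρ ⁅x, g⁆ v - v = ρ x (ρ g w) - ρ g (ρ x w) := by
  have h1 : ρ ⁅x, g⁆ v = ρ x (ρ g w) := by
    rw [hw, commutatorElement_def, map_mul, map_mul, map_mul, Module.End.mul_apply,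
      Module.End.mul_apply, Module.End.mul_apply]
  have h2 : ρ g (ρ x w) = v := by
    rw [hw, Representation.self_inv_apply, Representation.self_inv_apply]
  rw [h1, h2]

theorem comm_apply (ρ : Representation k Γ V) (x g : Γ) (v w : V)
    (hw : w = ρ x⁻¹ (ρ g⁻¹ v)) :
    ρ ⁅x, g⁆ v - v =
      (ρ x (ρ g w - w) - (ρ g w - w)) - (ρ g (ρ x w - w) - (ρ x w - w)) := by
  rw [comm_apply' ρ x g v w hw]
  simp only [map_sub]
  abel

/-- A group acting faithfully and unipotently along a finite flag is nilpotent. -/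
theorem isNilpotent_of_flag (ρ : Representation k Γ V) (hfaith : ∀ g, ρ g = 1 → g = 1)
    (m : ℕ) (F : ℕ → Submodule k V) (hmono : Monotone F) (h0 : F 0 = ⊥) (hm : F m = ⊤)
    (htriv : ∀ g i, ∀ v ∈ F i, ρ g v - v ∈ F (i - 1)) : Group.IsNilpotent Γ := by
  have hstab : ∀ g i, ∀ v ∈ F i, ρ g v ∈ F i := by
    intro g i v hv
    have h1 : ρ g v = (ρ g v - v) + v := by abel
    rw [h1]
    exact Submodule.add_mem _ (hmono (Nat.sub_le i 1) (htriv g i v hv)) hv
  rw [Subgroup.nilpotent_iff_finite_descending_central_series]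
  refine ⟨m, shiftSubgroup ρ F hstab, ⟨?_, ?_⟩, ?_⟩
  · rw [eq_top_iff]
    intro g _ i v hv
    rw [Nat.sub_zero]
    exact Submodule.sub_mem _ (hstab g i v hv) hv
  · intro x n hx g i v hv
    rw [comm_apply ρ x g v _ rfl]
    have hw : ρ x⁻¹ (ρ g⁻¹ v) ∈ F i := hstab _ _ _ (hstab _ _ _ hv)
    refine Submodule.sub_mem _ ?_ ?_
    · have h1 := htriv g i _ hw
      have h2 := hx (i - 1) _ h1
      rw [Nat.sub_sub, Nat.add_comm] at h2
      exact h2
    · have h1 := hx i _ hw
      have h2 := htriv g (i - n) _ h1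
      rw [Nat.sub_sub] at h2
      exact h2
  · rw [eq_bot_iff]
    intro g hg
    rw [Subgroup.mem_bot]
    apply hfaith
    apply LinearMap.ext
    intro v
    have h1 := hg m v (by rw [hm]; trivial)
    rw [Nat.sub_self, h0, Submodule.mem_bot, sub_eq_zero] at h1
    rw [h1, Module.End.one_apply]

end Nilp

section Solv

variable {k : Type u} [CommRing k] {Γ : Type v} [Group Γ] {V : Type w} [AddCommGroup V] [Module k V]

/-- A group acting faithfully and preserving a finite flag with cyclic quotients is solvable. -/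
theorem isSolvable_of_flag (ρ : Representation k Γ V) (hfaith : ∀ g, ρ g = 1 → g = 1)
    (m : ℕ) (F : ℕ → Submodule k V) (hmono : Monotone F) (h0 : F 0 = ⊥) (hm : F m = ⊤)
    (hstab : ∀ g i, ∀ v ∈ F i, ρ g v ∈ F i)
    (hcyc : ∀ i, ∃ e ∈ F (i + 1), ∀ v ∈ F (i + 1), ∃ c : k, v - c • e ∈ F i) :
    Group.IsSolvable Γ := by
  -- scalars
  have hsc : ∀ i g, ∃ c : k, ∀ u ∈ F (i + 1), ρ g u - c • u ∈ F i := by
    intro i g
    obtain ⟨e, he, hev⟩ := hcyc i
    obtain ⟨c, hc⟩ := hev (ρ g e) (hstab g _ e he)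
    refine ⟨c, fun u hu => ?_⟩
    obtain ⟨d, hd⟩ := hev u hu
    have h1 : ρ g u - c • u = d • (ρ g e - c • e) + (ρ g (u - d • e) - c • (u - d • e)) := by
      simp only [map_sub, map_smul, smul_sub]
      rw [smul_comm c d e]
      abel
    rw [h1]
    exact Submodule.add_mem _ (Submodule.smul_mem _ _ hc)
      (Submodule.sub_mem _ (hstab g _ _ hd) (Submodule.smul_mem _ _ hd))
  -- commutators of operators
  have hcomm : ∀ i (g h : Γ), ∀ u ∈ F (i + 1), ρ g (ρ h u) - ρ h (ρ g u) ∈ F i := by
    intro i g h u hu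
    obtain ⟨cg, hcg⟩ := hsc i g
    obtain ⟨ch, hch⟩ := hsc i h
    have h1 : ρ g (ρ h u) - ρ h (ρ g u) =
        (ρ g (ρ h u) - cg • ρ h u) + cg • (ρ h u - ch • u) -
        ((ρ h (ρ g u) - ch • ρ g u) + ch • (ρ g u - cg • u)) := by
      simp only [smul_sub]
      rw [smul_comm cg ch u]
      abel
    rw [h1]
    refine Submodule.sub_mem _ (Submodule.add_mem _ (hcg _ (hstab h _ u hu))
      (Submodule.smul_mem _ _ (hch u hu))) (Submodule.add_mem _ (hch _ (hstab g _ u hu))
      (Submodule.smul_mem _ _ (hcg u hu)))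
  -- the unipotent part
  set K : Subgroup Γ := shiftSubgroup ρ F hstab 1 with hK
  have hKnil : Group.IsNilpotent K := by
    refine isNilpotent_of_flag (ρ.comp K.subtype) ?_ m F hmono h0 hm ?_
    · intro g hg
      have h1 : ρ (g : Γ) = 1 := hg
      exact Subtype.ext (hfaith _ h1)
    · intro g i v hv
      exact g.2 i v hv
  have hle : commutator Γ ≤ K := by
    rw [commutator_eq_closure, Subgroup.closure_le]
    rintro _ ⟨x, g, rfl⟩
    intro i v hv
    cases i with
    | zero =>
      rw [h0, Submodule.mem_bot] at hv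
      rw [hv, map_zero, sub_zero]
      exact Submodule.zero_mem _
    | succ j =>
      have hw : ρ x⁻¹ (ρ g⁻¹ v) ∈ F (j + 1) := hstab _ _ _ (hstab _ _ _ hv)
      rw [comm_apply' ρ x g v _ rfl, Nat.add_sub_cancel]
      exact hcomm j x g _ hw
  haveI : Group.IsSolvable K := inferInstance
  refine Group.isSolvable_of_ker_le_range K.subtype (Abelianization.of (G := Γ)) ?_
  rw [Abelianization.ker_of, Subgroup.range_subtype]
  exact hle

end Solv

end Groth.Agent.Lib.Helper6.FlagGrp
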